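import Mathlib
import Cfsg.Agent.Lib.ClassCount.Basic
import Cfsg.Agent.Lib.ClassCount.ConjIndex
import Cfsg.Agent.Lib.Char.Linear
import Cfsg.Agent.Lib.Char.Descend
import Cfsg.Agent.Lib.Char.Orthogonality
import Cfsg.Agent.Lib.Coprime.Sylow
import Cfsg.Agent.Lib.SchmidtUniversal.Ext

/-!
# Many classes of π-elements: lemmas

* `small_commutator`: if every prime divisor of `|L|` is at least `p` and `p k(L) > |L|`, then `|L'| ≤ p`
  and `L` is nilpotent.
* `exists_quotient`: if every Sylow subgroup for the primes of `S` is abelian with a normal complement,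
  there is a normal subgroup with abelian quotient of order the `S`-part.
* `exists_complement_normalizing`: such a quotient has a complement normalising a given Sylow subgroup of
  the kernel.
* `orbit_bound`: a group of order with prime divisors `≥ p` acting non-trivially on a Sylow `q`-subgroup.
-/

set_option autoImplicit false

namespace Cfsg.Agent.ManyPiClasses

open Subgroup ClassCount
open scoped Pointwise

universe u

variable {G : Type u} [Group G] [Finite G]

/-- The `σ`-part of the order of a group. -/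
noncomputable def piPart (σ : Finset ℕ) (G : Type*) [Group G] : ℕ :=
  σ.prod fun r => r ^ (Nat.card G).factorization r

theorem prime_of_dvd_piPart {σ : Finset ℕ} (hσ : ∀ r ∈ σ, r.Prime) {r : ℕ} (hr : r.Prime)
    (h : r ∣ piPart σ G) : r ∈ σ := by
  obtain ⟨s, hs, hrs⟩ := (Prime.dvd_finsetProd_iff hr.prime _).1 h
  rwa [(Nat.prime_dvd_prime_iff_eq hr (hσ s hs)).1 (hr.dvd_of_dvd_pow hrs)]

theorem piPart_dvd_card {σ : Finset ℕ} (hσ : ∀ r ∈ σ, r.Prime) : piPart σ G ∣ Nat.card G := by
  refine Finset.prod_dvd_of_isRelPrime (fun r hr s hs hne => ?_) fun r _ => Nat.ordProj_dvd _ _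
  exact Nat.coprime_iff_isRelPrime.1
    (Nat.Coprime.pow _ _ ((Nat.coprime_primes (hσ r hr) (hσ s hs)).2 hne))

theorem piPart_dvd_piPart {σ : Finset ℕ} (hσ : ∀ r ∈ σ, r.Prime) (K : Subgroup G) :
    piPart σ K ∣ piPart σ G :=
  Finset.prod_dvd_prod_of_dvd _ _ fun r _ => Nat.pow_dvd_pow r
    ((Nat.factorization_le_iff_dvd Nat.card_pos.ne' Nat.card_pos.ne').2 K.card_subgroup_dvd_card r)

theorem piPart_pos {σ : Finset ℕ} (hσ : ∀ r ∈ σ, r.Prime) : 0 < piPart σ G :=
  Finset.prod_pos fun r hr => pow_pos (hσ r hr).pos _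

theorem piPart_erase {σ : Finset ℕ} {q : ℕ} (hq : q ∈ σ) :
    q ^ (Nat.card G).factorization q * piPart (σ.erase q) G = piPart σ G :=
  Finset.mul_prod_erase σ (fun r => r ^ (Nat.card G).factorization r) hq

theorem coprime_piPart_div {σ : Finset ℕ} (hσ : ∀ r ∈ σ, r.Prime) :
    Nat.Coprime (piPart σ G) (Nat.card G / piPart σ G) := by
  refine Nat.Coprime.prod_left fun r hr => Nat.Coprime.pow_left _ ?_
  refine ((hσ r hr).coprime_iff_not_dvd).2 fun hd => ?_
  have h1 : (r ^ (Nat.card G).factorization r) * r ∣ Nat.card G := by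
    have h2 : r ^ (Nat.card G).factorization r ∣ piPart σ G := Finset.dvd_prod_of_mem _ hr
    have h3 := Nat.mul_dvd_mul h2 hd
    rwa [Nat.mul_div_cancel' (piPart_dvd_card hσ)] at h3
  rw [← pow_succ] at h1
  exact Nat.not_succ_le_self _
    ((Nat.Prime.pow_dvd_iff_le_factorization (hσ r hr) Nat.card_pos.ne').1 h1)

theorem coprime_index_of_card_eq {σ : Finset ℕ} (hσ : ∀ r ∈ σ, r.Prime) {H : Subgroup G}
    (hH : Nat.card H = piPart σ G) : (Nat.card H).Coprime H.index := by
  have h : H.index = Nat.card G / piPart σ G := by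
    rw [← H.card_mul_index, hH, Nat.mul_div_cancel_left _ (piPart_pos hσ)]
  rw [hH, h]
  exact coprime_piPart_div hσ

omit [Finite G] in
/-- An abelian-by-central criterion: many classes force a small commutator subgroup. -/
theorem small_commutator {L : Type u} [Group L] [Finite L] {p : ℕ} (hp : p.Prime)
    (hmin : ∀ r : ℕ, r.Prime → r ∣ Nat.card L → p ≤ r)
    (h : Nat.card L < p * Nat.card (ConjClasses L)) :
    Nat.card (commutator L) ≤ p ∧ Group.IsNilpotent L := by
  classical
  have := Fintype.ofFinite L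
  let A := Finset.univ.filter fun χ : Cfsg.IrrCharacter L => χ.1 1 = 1
  let B := Finset.univ.filter fun χ : Cfsg.IrrCharacter L => ¬ χ.1 1 = 1
  have hAB : A.card + B.card = Nat.card (ConjClasses L) := by
    rw [Finset.card_filter_add_card_filter_not, ← Char.card_irr, Nat.card_eq_fintype_card]
    rfl
  have hA : A.card = (commutator L).index := by
    rw [← Char.card_linear, Nat.card_eq_fintype_card, Fintype.card_subtype]
  have hsum : A.card + p ^ 2 * B.card ≤ Nat.card L := by
    rw [← Char.sum_degree_sq, ← Finset.sum_filter_add_sum_filter_not Finset.univ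
      (fun χ : Cfsg.IrrCharacter L => χ.1 1 = 1) (fun χ => Char.degree χ ^ 2)]
    refine Nat.add_le_add ?_ ?_
    · calc A.card = ∑ χ ∈ A, 1 := Finset.card_eq_sum_ones A
        _ ≤ _ := Finset.sum_le_sum fun χ _ => Nat.one_le_pow _ _ (Char.degree_pos χ)
    · calc p ^ 2 * B.card = ∑ χ ∈ B, p ^ 2 := by rw [Finset.sum_const, smul_eq_mul, mul_comm]
        _ ≤ _ := Finset.sum_le_sum fun χ hχ => by
          refine Nat.pow_le_pow_left ?_ 2
          have h1 : Char.degree χ ≠ 1 := fun e => (Finset.mem_filter.1 hχ).2 (by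
            rw [Char.apply_one_eq_degree, e, Nat.cast_one])
          obtain ⟨r, hr, hrd⟩ := Nat.exists_prime_and_dvd h1
          refine (hmin r hr (hrd.trans ?_)).trans (Nat.le_of_dvd (Char.degree_pos χ) hrd)
          rw [← Char.charDegree_eq_degree]
          exact Char.charDegree_dvd_card χ
  have hidx : (commutator L).index * Nat.card (commutator L) = Nat.card L := by
    rw [mul_comm, Subgroup.card_mul_index]
  have h2 := hp.two_le
  have hcard : Nat.card (commutator L) ≤ p := by
    by_contra hlt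
    rw [not_le] at hlt
    rw [hA] at hsum hAB
    set i := (commutator L).index
    set c := Nat.card (commutator L)
    have h5 : i * (p + 1) ≤ Nat.card L := hidx ▸ Nat.mul_le_mul_left _ hlt
    obtain ⟨e, rfl⟩ : ∃ e, p = e + 2 := ⟨p - 2, by omega⟩
    rw [← hAB] at h
    nlinarith [Nat.mul_lt_mul_of_pos_left h (show 0 < e + 2 by omega),
      Nat.mul_le_mul_left (e + 1) h5]
  refine ⟨hcard, ?_⟩
  -- the commutator subgroup is central
  have hc : commutator L ≤ Subgroup.center L := by
    by_cases h1 : Nat.card (commutator L) = 1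
    · rw [Subgroup.card_eq_one.1 h1]; exact bot_le
    have hd : Nat.card (commutator L) = p := by
      obtain ⟨r, hr, hrd⟩ := Nat.exists_prime_and_dvd h1
      exact le_antisymm hcard ((hmin r hr (hrd.trans (Subgroup.card_subgroup_dvd_card _))).trans
        (Nat.le_of_dvd Nat.card_pos hrd))
    intro c hc
    rw [Subgroup.mem_center_iff]
    by_contra hne
    simp only [not_forall] at hne
    obtain ⟨g, hg⟩ := hne
    have hge : (Subgroup.centralizer ({c} : Set L)).relIndex ⊤ ≠ 1 := by
      intro e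
      rw [Subgroup.relIndex_eq_one] at e
      exact hg (Subgroup.mem_centralizer_singleton_iff.1 (e (Subgroup.mem_top g)))
    obtain ⟨r, hr, hrd⟩ := Nat.exists_prime_and_dvd hge
    have hpr : p ≤ r := hmin r hr (hrd.trans
      ((Subgroup.relIndex_dvd_card _ _).trans (Subgroup.card_subgroup_dvd_card _)))
    have hle : (Subgroup.centralizer ({c} : Set L)).relIndex ⊤ < p := by
      rw [relIndex_centralizer_singleton]
      have hsub : ((fun h : L => h * c * h⁻¹) '' ((⊤ : Subgroup L) : Set L)) ⊆
          ((commutator L : Subgroup L) : Set L) \ {1} := by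
        rintro _ ⟨x, -, rfl⟩
        refine ⟨(inferInstance : (commutator L).Normal).conj_mem c hc x, fun e => hg ?_⟩
        have e' : c = 1 := conj_eq_one_iff.1 e
        rw [e', mul_one, one_mul]
      refine lt_of_le_of_lt (Set.ncard_le_ncard hsub (Set.toFinite _)) ?_
      rw [← hd, ← Nat.card_coe_set_eq]
      exact Set.ncard_diff_singleton_lt_of_mem (one_mem _) (Set.toFinite _)
    exact absurd (hpr.trans (Nat.le_of_dvd (Nat.pos_of_dvd_of_pos (Subgroup.relIndex_dvd_card _ _) Nat.card_pos) hrd))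
      (not_le.2 hle)
  haveI : Group.IsNilpotent (L ⧸ commutator L) := inferInstanceAs (Group.IsNilpotent (Abelianization L))
  exact _root_.isNilpotent_of_ker_le_center (QuotientGroup.mk' (commutator L))
    (by rwa [QuotientGroup.ker_mk'])

/-- Normal complements to abelian Sylow subgroups give an abelian quotient. -/
theorem exists_quotient (S : Finset ℕ) (hS : ∀ r ∈ S, r.Prime)
    (h : ∀ r ∈ S, ∀ (_ : Fact r.Prime) (R : Sylow r G), IsMulCommutative (R : Subgroup G) ∧
      ∃ N : Subgroup G, N.Normal ∧ N.IsComplement' (R : Subgroup G)) :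
    ∃ M : Subgroup G, M.Normal ∧ M.index = piPart S G ∧ commutator G ≤ M := by
  classical
  have key : ∀ r : {r // r ∈ S}, ∃ N : Subgroup G, N.Normal ∧
      N.index = r.1 ^ (Nat.card G).factorization r.1 ∧ commutator G ≤ N := by
    rintro ⟨r, hr⟩
    haveI : Fact r.Prime := ⟨hS r hr⟩
    let R : Sylow r G := default
    obtain ⟨hab, N, hN, hc⟩ := h r hr inferInstance R
    haveI := hN
    refine ⟨N, hN, ?_, ?_⟩
    · rw [hc.symm.index_eq_card]; exact R.card_eq_multiplicity
    · haveI : IsMulCommutative (G ⧸ N) := ⟨⟨fun a b => by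
        let e := hc.symm.QuotientMulEquiv
        apply e.injective
        rw [map_mul, map_mul]
        exact hab.is_comm.comm _ _⟩⟩
      rw [_root_.commutator_def, Subgroup.commutator_le]
      intro a _ b _
      rw [← QuotientGroup.eq_one_iff (N := N)]
      show ((a * b * a⁻¹ * b⁻¹ : G) : G ⧸ N) = 1
      simp only [QuotientGroup.mk_mul, QuotientGroup.mk_inv]
      rw [(IsMulCommutative.is_comm (M := G ⧸ N)).comm (a : G ⧸ N) b]
      group
  choose N hNn hNi hNc using key
  refine ⟨⨅ r, N r, Subgroup.normal_iInf_normal hNn, ?_, le_iInf hNc⟩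
  refine le_antisymm ?_ (Nat.le_of_dvd (Nat.pos_of_ne_zero Subgroup.index_ne_zero_of_finite) ?_)
  · refine (Subgroup.index_iInf_le N).trans (le_of_eq ?_)
    rw [piPart, ← Finset.prod_coe_sort S]
    exact Finset.prod_congr rfl fun r _ => hNi r
  · refine Finset.prod_dvd_of_isRelPrime (fun r hr s hs hne => ?_) fun r hr => ?_
    · exact Nat.coprime_iff_isRelPrime.1
        (Nat.Coprime.pow _ _ ((Nat.coprime_primes (hS r hr) (hS s hs)).2 hne))
    · exact hNi ⟨r, hr⟩ ▸ Subgroup.index_dvd_of_le (iInf_le N ⟨r, hr⟩)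

/-- A complement to an abelian coprime quotient normalising a given Sylow subgroup of the kernel. -/
theorem exists_complement_normalizing (M : Subgroup G) [M.Normal] (hcop : (Nat.card M).Coprime M.index)
    (hab : commutator G ≤ M) {q : ℕ} [Fact q.Prime] (Q : Sylow q M) :
    ∃ A : Subgroup G, IsMulCommutative A ∧ Nat.card A = M.index ∧
      A ≤ normalizer (((Q : Subgroup M).map M.subtype : Subgroup G) : Set G) := by
  set N := normalizer (((Q : Subgroup M).map M.subtype : Subgroup G) : Set G) with hN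
  have hsup : N ⊔ M = ⊤ := Q.normalizer_sup_eq_top
  have hidx : (M.subgroupOf N).index = M.index := by
    change M.relIndex N = _
    rw [← Coprime.relIndex_sup_right_of_le_normalizer (H := N) (K := M)
      (by rw [normalizer_eq_top]; exact le_top), hsup, relIndex_top_right]
  haveI : (M.subgroupOf N).Normal := inferInstance
  have hc : (Nat.card (M.subgroupOf N)).Coprime (M.subgroupOf N).index := by
    rw [hidx]
    refine hcop.coprime_dvd_left ?_
    rw [← inf_subgroupOf_right, Coprime.card_subgroupOf inf_le_right]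
    exact Subgroup.card_dvd_of_le inf_le_left
  obtain ⟨A₀, hA₀⟩ := exists_right_complement'_of_coprime hc
  refine ⟨A₀.map N.subtype, ?_, ?_, map_subtype_le _⟩
  · haveI : IsMulCommutative A₀ := ⟨⟨fun a b => by
      have h1 : (a : N) * b * (a : N)⁻¹ * (b : N)⁻¹ ∈ M.subgroupOf N ⊓ A₀ :=
        ⟨hab (Subgroup.commutator_mem_commutator (mem_top ((a : N) : G)) (mem_top ((b : N) : G))),
          A₀.mul_mem (A₀.mul_mem (A₀.mul_mem a.2 b.2) (A₀.inv_mem a.2)) (A₀.inv_mem b.2)⟩
      rw [hA₀.disjoint.eq_bot, mem_bot, mul_inv_eq_one, mul_inv_eq_iff_eq_mul] at h1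
      exact Subtype.ext h1⟩⟩
    infer_instance
  · rw [Subgroup.card_map_of_injective N.subtype_injective, ← hidx, hA₀.symm.index_eq_card]

/-- A non-trivial action on a Sylow subgroup by a group whose prime divisors are `≥ p`. -/
theorem orbit_bound {q : ℕ} [hq : Fact q.Prime] (Q : Sylow q G) {p : ℕ} (hp : 1 ≤ p) (A : Subgroup G)
    (hA : A ≤ normalizer ((Q : Subgroup G) : Set G))
    (hAp : ∀ r : ℕ, r.Prime → r ∣ Nat.card A → p ≤ r)
    (hne : ¬ A ≤ centralizer ((Q : Subgroup G) : Set G)) :
    q * p * piClassCount {q} G ≤ (q + (p - 1)) * Nat.card (Q : Subgroup G) := by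
  classical
  let F := (centralizer (A : Set G)).subgroupOf (Q : Subgroup G)
  have hF : q * Nat.card F ≤ Nat.card (Q : Subgroup G) := by
    obtain ⟨k, hk⟩ := Q.2.index F
    rw [← F.card_mul_index, mul_comm q, hk]
    refine Nat.mul_le_mul_left _ (Nat.le_self_pow (fun h0 => hne ?_) q)
    rw [h0, pow_zero, Subgroup.index_eq_one, subgroupOf_eq_top] at hk
    intro a ha
    rw [mem_centralizer_iff]
    intro y hy
    exact ((mem_centralizer_iff.1 (hk hy)) a ha).symm
  rw [piClassCount_singleton hq.out]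
  have h1 := mul_card_range_le (sylowClassMap Q) (sylowClassMap_surjective Q) p (F : Set _) fun y hy => by
    have hne1 : (centralizer ({(y : G)} : Set G)).relIndex A ≠ 1 := fun e => hy (by
      rw [relIndex_eq_one] at e
      rw [SetLike.mem_coe, mem_subgroupOf, mem_centralizer_iff]
      exact fun a ha => mem_centralizer_singleton_iff.1 (e ha))
    obtain ⟨r, hr, hrd⟩ := Nat.exists_prime_and_dvd hne1
    have hpr : p ≤ (centralizer ({(y : G)} : Set G)).relIndex A :=
      (hAp r hr (hrd.trans (relIndex_dvd_card _ _))).trans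
        (Nat.le_of_dvd (Nat.pos_of_dvd_of_pos (relIndex_dvd_card _ _) Nat.card_pos) hrd)
    rw [relIndex_centralizer_singleton, ← Nat.card_coe_set_eq] at hpr
    refine hpr.trans ?_
    let f : ((fun h : G => h * (y : G) * h⁻¹) '' (A : Set G)) →
        {b // sylowClassMap Q b = sylowClassMap Q y} := fun z =>
      ⟨⟨z.1, by
        obtain ⟨a, ha, he⟩ := z.2
        rw [← he]
        exact (mem_normalizer_iff.1 (hA ha) _).1 y.2⟩, Subtype.ext (by
        obtain ⟨a, ha, he⟩ := z.2
        simp only [sylowClassMap]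
        rw [ConjClasses.mk_eq_mk_iff_isConj, isConj_comm, isConj_iff]
        exact ⟨a, he⟩)⟩
    exact Nat.card_le_card_of_injective f fun a b e =>
      Subtype.ext (congrArg (fun w => ((w.1 : (Q : Subgroup G)) : G)) e)
  have h2 : (p - 1) * (q * Nat.card F) ≤ (p - 1) * Nat.card (Q : Subgroup G) :=
    Nat.mul_le_mul_left _ hF
  have h3 := Nat.mul_le_mul_left q h1
  have e : Nat.card (F : Set (Q : Subgroup G)) = Nat.card F := rfl
  rw [e] at h3
  nlinarith

/-- Two commuting nilpotent subgroups of coprime order generate a nilpotent subgroup. -/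
theorem exists_nilpotent_join (H K : Subgroup G) [Group.IsNilpotent H] [Group.IsNilpotent K]
    (hcop : (Nat.card H).Coprime (Nat.card K)) (hc : K ≤ centralizer (H : Set G)) :
    ∃ J : Subgroup G, Nat.card J = Nat.card H * Nat.card K ∧ Group.IsNilpotent J := by
  let f : H × K →* G := MonoidHom.noncommCoprod H.subtype K.subtype
    fun h k => mem_centralizer_iff.1 (hc k.2) h h.2
  refine ⟨f.range, ?_, Group.nilpotent_of_surjective f.rangeRestrict f.rangeRestrict_surjective⟩
  have hinj : Function.Injective f := by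
    rw [← MonoidHom.ker_eq_bot_iff, eq_bot_iff]
    rintro ⟨h, k⟩ e
    have e' : (h : G) * (k : G) = 1 := e
    have hh : (h : G) ∈ H ⊓ K := ⟨h.2, by rw [eq_inv_of_mul_eq_one_left e']; exact K.inv_mem k.2⟩
    rw [Coprime.disjoint_of_coprime_card hcop, mem_bot] at hh
    rw [hh, one_mul] at e'
    exact mem_bot.2 (Prod.ext (Subtype.ext hh) (Subtype.ext e'))
  rw [← Nat.card_congr (MonoidHom.ofInjective hinj).toEquiv, Nat.card_prod]

/-- If every σ-element is conjugate into `L` then `k_σ(G) ≤ k(L)`. -/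
theorem piClassCount_le_conjClasses {σ : Finset ℕ} (L : Subgroup G)
    (h : ∀ z : G, IsPiElt σ z → ∃ c : G, c * z * c⁻¹ ∈ L) :
    piClassCount σ G ≤ Nat.card (ConjClasses L) := by
  classical
  have key : ∀ c : {c : ConjClasses G // ∀ y ∈ c.carrier, ∀ r : ℕ, r.Prime → r ∣ orderOf y → r ∈ σ},
      ∃ l : L, ConjClasses.mk (l : G) = c.1 := by
    rintro ⟨c, hc⟩
    obtain ⟨z, rfl⟩ := ConjClasses.exists_rep c
    obtain ⟨g, hg⟩ := h z (hc z ConjClasses.mem_carrier_mk)
    exact ⟨⟨_, hg⟩, ConjClasses.mk_eq_mk_iff_isConj.2 (isConj_iff.2 ⟨g⁻¹, by group⟩)⟩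
  choose l hl using key
  refine Nat.card_le_card_of_injective (fun c => ConjClasses.mk (l c)) fun a b e => Subtype.ext ?_
  rw [← hl a, ← hl b, ConjClasses.mk_eq_mk_iff_isConj]
  exact L.subtype.map_isConj (ConjClasses.mk_eq_mk_iff_isConj.1 e)

/-- A nonabelian `q`-group has at most `(q² + q - 1) |P| / q³` classes. -/
theorem card_conjClasses_nonabelian {q : ℕ} [hq : Fact q.Prime] {P : Type*} [Group P] [Finite P]
    (hP : IsPGroup q P) (hna : ¬ IsMulCommutative P) :
    q ^ 3 * Nat.card (ConjClasses P) ≤ (q ^ 2 + q - 1) * Nat.card P := by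
  have h1 : q ^ 2 * Nat.card (Subgroup.center P) ≤ Nat.card P := by
    obtain ⟨k, hk⟩ := hP.index (Subgroup.center P)
    rw [← Subgroup.card_mul_index (Subgroup.center P), hk, mul_comm]
    refine Nat.mul_le_mul_left _ (Nat.pow_le_pow_right hq.out.pos ?_)
    by_contra hlt
    apply hna
    have : IsCyclic (P ⧸ Subgroup.center P) := by
      rcases Nat.lt_succ_iff.mp (Nat.not_le.mp hlt) |>.lt_or_eq with h0 | h0
      · have : Subsingleton (P ⧸ Subgroup.center P) :=
          (Nat.card_eq_one_iff_unique.mp (by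
            change (Subgroup.center P).index = 1
            rw [hk, Nat.lt_one_iff.mp h0, pow_zero])).1
        infer_instance
      · exact isCyclic_of_prime_card (p := q) (by
          change (Subgroup.center P).index = q
          rw [hk, h0, pow_one])
    exact MonoidHom.isMulCommutative_of_isCyclic_of_ker_le_center (QuotientGroup.mk' (Subgroup.center P)) (by simp)
  have h2 := card_conjClasses_pGroup_le hP
  obtain ⟨a, rfl⟩ : ∃ a, q = a + 2 := ⟨q - 2, by have := hq.out.two_le; omega⟩
  simp only [show a + 2 - 1 = a + 1 by omega] at h2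
  rw [show (a + 2) ^ 2 + (a + 2) - 1 = (a + 2) ^ 2 + (a + 1) by omega]
  nlinarith [Nat.mul_le_mul_left ((a + 2) ^ 2) h2, Nat.mul_le_mul_left (a + 1) h1]

theorem piClassCount_singleton_le_conjClasses {q : ℕ} [hq : Fact q.Prime] (Q : Sylow q G) :
    piClassCount {q} G ≤ Nat.card (ConjClasses (Q : Subgroup G)) := by
  refine piClassCount_le_conjClasses _ fun z hz => ?_
  obtain ⟨y, hy⟩ := sylowClassMap_surjective Q ⟨ConjClasses.mk z, fun w hw =>
    (isPiElt_singleton hq.out).1 (forall_carrier_mk hz w hw)⟩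
  obtain ⟨c, hc⟩ := isConj_iff.1 (ConjClasses.mk_eq_mk_iff_isConj.1 (congrArg Subtype.val hy))
  exact ⟨c⁻¹, by rw [← hc]; convert y.2 using 1; group⟩

/-- Above `p`, a Sylow subgroup with more than `|Q| / p` classes is abelian. -/
theorem sylow_abelian_of_lt {p q : ℕ} [hq : Fact q.Prime] (hpq : p < q) (Q : Sylow q G)
    (h : Nat.card (Q : Subgroup G) < p * piClassCount {q} G) : IsMulCommutative (Q : Subgroup G) := by
  by_contra hna
  have h2 := card_conjClasses_nonabelian Q.2 hna
  have h3 := Nat.mul_le_mul_left p (piClassCount_singleton_le_conjClasses Q)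
  obtain ⟨a, rfl⟩ : ∃ a, q = p + 1 + a := ⟨q - p - 1, by omega⟩
  have e : p * ((p + 1 + a) ^ 2 + (p + 1 + a) - 1) ≤ (p + 1 + a) ^ 3 := by
    rw [show (p + 1 + a) ^ 2 + (p + 1 + a) - 1 = (p + 1 + a) ^ 2 + (p + a) by omega]
    nlinarith
  nlinarith [Nat.mul_lt_mul_of_pos_left (lt_of_lt_of_le h h3) (show 0 < (p + 1 + a) ^ 3 by positivity),
    Nat.mul_le_mul_left p h2, Nat.mul_le_mul_right (Nat.card (Q : Subgroup G)) e]

end Cfsg.Agent.ManyPiClasses
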