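import Cfsg.Agent.Lib.ManyPiClasses.Basic
import Cfsg.Agent.Lib.Transfer.Hall
import Cfsg.Agent.S0581

/-!
# More than `m / p` classes of π-elements force a nilpotent Hall π-subgroup

No classification is used.  Induction on the set of primes `σ`: for `q ∈ σ` above `p`, a class of
`q`-elements is *full* if its centraliser has more than `m' / p` classes of `σ - q`-elements; by induction
such a centraliser contains a nilpotent Hall `σ - q`-subgroup, and these are all conjugate, so there are at
most `|Q| / q` full classes unless `Q` centralises one of them.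
-/

set_option autoImplicit false

namespace Cfsg.Agent.ManyPiClasses

open Subgroup ClassCount
open scoped Pointwise

universe u

variable {G : Type u} [Group G] [Finite G]

theorem le_ratio {p r : ℕ} (hpr : p ≤ r) (hp : 0 < p) {a b : ℕ} (h : (p + 1) * a < 2 * p * b) :
    (r + 1) * a < 2 * r * b := by
  have e : p * ((r + 1) * a) ≤ r * ((p + 1) * a) := by nlinarith [Nat.mul_le_mul_right a hpr]
  nlinarith [Nat.mul_lt_mul_of_pos_left h (show 0 < r by omega)]

/-- Nilpotent Hall subgroups contain a conjugate of every σ-element. -/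
theorem exists_conj_mem {σ : Finset ℕ} (hσ : ∀ r ∈ σ, r.Prime) {H : Subgroup G}
    (hH : Group.IsNilpotent H) (hcard : Nat.card H = piPart σ G) {z : G} (hz : IsPiElt σ z) :
    ∃ c : G, c * z * c⁻¹ ∈ H := by
  obtain ⟨x, hx⟩ := S0581.result H (zpowers z) hH (coprime_index_of_card_eq hσ hcard) fun r hr hrd => by
    rw [Nat.card_zpowers] at hrd
    rw [hcard]
    refine dvd_trans ?_ (Finset.dvd_prod_of_mem _ (hz r hr hrd))
    exact dvd_pow_self r (hr.factorization_pos_of_dvd Nat.card_pos.ne'
      (hrd.trans (orderOf_dvd_natCard z))).ne'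
  refine ⟨x⁻¹, ?_⟩
  have := hx (mem_zpowers z)
  rw [Coprime.mem_conj_smul_iff] at this
  simpa using this

theorem exists_hall_step {σ : Finset ℕ} (hσ : ∀ r ∈ σ, r.Prime) {p : ℕ} (hp : p.Prime)
    (hmin : ∀ r ∈ σ, p ≤ r)
    (ih : ∀ (τ : Finset ℕ), τ ⊂ σ → ∀ (H : Type u) [Group H] [Finite H],
      piPart τ H < p * piClassCount τ H →
        ∃ K : Subgroup H, Nat.card K = piPart τ H ∧ Group.IsNilpotent K)
    (h : piPart σ G < p * piClassCount σ G) {q : ℕ} (hqσ : q ∈ σ) (hpq : p < q)
    (hq2 : 2 * q * piClassCount {q} G ≤ (q + 1) * q ^ (Nat.card G).factorization q) :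
    ∃ K : Subgroup G, Nat.card K = piPart σ G ∧ Group.IsNilpotent K := by
  classical
  have hq : q.Prime := hσ q hqσ
  haveI : Fact q.Prime := ⟨hq⟩
  have h2p := hp.two_le
  set σ' := σ.erase q with hσ'def
  have hσ' : ∀ r ∈ σ', r.Prime := fun r hr => hσ r (Finset.mem_of_mem_erase hr)
  have hss : σ' ⊂ σ := Finset.erase_ssubset hqσ
  set Qc := q ^ (Nat.card G).factorization q with hQc
  set m' := piPart σ' G with hm'def
  have hm'pos : 0 < m' := piPart_pos hσ'
  have hm : Qc * m' = piPart σ G := piPart_erase hqσ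
  by_contra hcon
  -- the classes of `q`-elements
  obtain ⟨x, hx, hsum⟩ := piClassCount_insert_le_sum (G := G) (σ := σ') hq (Finset.notMem_erase q σ)
  rw [Finset.insert_erase hqσ] at hsum
  let C := {c : ConjClasses G // ∀ y ∈ c.carrier, ∀ r : ℕ, r.Prime → r ∣ orderOf y → r ∈ ({q} : Finset ℕ)}
  haveI : Fintype C := Fintype.ofFinite C
  have hCcard : Fintype.card C = piClassCount {q} G := by
    rw [← Nat.card_eq_fintype_card]; rfl
  let g : C → ℕ := fun c => piClassCount σ' (centralizer ({x c} : Set G))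
  have hk : piClassCount σ G ≤ ∑ c, g c := hsum
  have hgle : ∀ c, g c ≤ piPart σ' (centralizer ({x c} : Set G)) := fun c =>
    piClassCount_le_piPart σ' hσ' _
  have hgm : ∀ c, g c ≤ m' := fun c =>
    (hgle c).trans (Nat.le_of_dvd hm'pos (piPart_dvd_piPart hσ' _))
  have hxq : ∀ c, IsPiElt {q} (x c) := fun c =>
    c.2 _ (by rw [ConjClasses.mem_carrier_iff_mk_eq, hx])
  -- full classes
  let B : Finset C := Finset.univ.filter fun c => m' < p * g c
  have hpart : ∀ c ∈ B, piPart σ' (centralizer ({x c} : Set G)) = m' := by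
    intro c hc
    obtain ⟨t, ht⟩ := piPart_dvd_piPart hσ' (centralizer ({x c} : Set G)) (G := G)
    rw [← hm'def] at ht
    rcases eq_or_ne t 1 with rfl | ht1
    · rw [ht, mul_one]
    · obtain ⟨r, hr, hrt⟩ := Nat.exists_prime_and_dvd ht1
      have hpt : p ≤ t := by
        refine (hmin r (Finset.mem_of_mem_erase (prime_of_dvd_piPart hσ' hr (G := G) ?_))).trans
          (Nat.le_of_dvd (Nat.pos_of_ne_zero (by rintro rfl; simp [ht] at hm'pos)) hrt)
        rw [← hm'def, ht]
        exact hrt.mul_left _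
      have h1 : p * g c ≤ m' := by
        rw [ht, mul_comm _ t]
        exact Nat.mul_le_mul hpt (hgle c)
      exact absurd (Finset.mem_filter.1 hc).2 (not_lt.2 h1)
  have hhall : ∀ c ∈ B, ∃ H : Subgroup G, H ≤ centralizer ({x c} : Set G) ∧ Nat.card H = m' ∧
      Group.IsNilpotent H := by
    intro c hc
    obtain ⟨K, hK, hKn⟩ := ih σ' hss (centralizer ({x c} : Set G)) (by
      rw [hpart c hc]; exact (Finset.mem_filter.1 hc).2)
    refine ⟨K.map (Subgroup.subtype _), map_subtype_le _, ?_, ?_⟩
    · rw [card_map_of_injective (Subgroup.subtype_injective _), hK, hpart c hc]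
    · exact Group.nilpotent_of_mulEquiv (K.equivMapOfInjective _ (Subgroup.subtype_injective _))
  have hcopm : ∀ {A : Subgroup G}, Nat.card A = m' → ∀ {S : Subgroup G}, IsPGroup q S →
      (Nat.card A).Coprime (Nat.card S) := by
    intro A hA S hS
    obtain ⟨j, hj⟩ := IsPGroup.iff_card.1 hS
    rw [hA, hj]
    refine Nat.Coprime.pow_right j ((hq.coprime_iff_not_dvd).2 fun hd => ?_).symm
    exact Finset.notMem_erase q σ (prime_of_dvd_piPart hσ' hq (G := G) hd)
  -- few full classes
  have ha : q * B.card ≤ Qc := by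
    rcases B.eq_empty_or_nonempty with hB | ⟨c0, hc0⟩
    · simp [hB]
    obtain ⟨H0, -, hH0c, hH0n⟩ := hhall c0 hc0
    let Q0 : Sylow q (centralizer (H0 : Set G)) := default
    obtain ⟨i, hi⟩ := IsPGroup.iff_card.1 Q0.2
    have hdvd : q ^ i ∣ Nat.card G := by
      rw [← hi]
      exact (card_subgroup_dvd_card _).trans (card_subgroup_dvd_card _)
    have hif : i ≤ (Nat.card G).factorization q :=
      (hq.pow_dvd_iff_le_factorization Nat.card_pos.ne').1 hdvd
    have hilt : i < (Nat.card G).factorization q := by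
      refine lt_of_le_of_ne hif fun e => hcon ?_
      haveI := hH0n
      set Q1 := (Q0 : Subgroup (centralizer (H0 : Set G))).map (Subgroup.subtype _)
      have hQ1 : IsPGroup q Q1 := Q0.2.map _
      haveI : Group.IsNilpotent Q1 := hQ1.isNilpotent
      obtain ⟨J, hJ, hJn⟩ := exists_nilpotent_join H0 Q1 (hcopm hH0c hQ1) (map_subtype_le _)
      refine ⟨J, ?_, hJn⟩
      rw [hJ, hH0c, card_map_of_injective (Subgroup.subtype_injective _), hi, e, mul_comm, ← hQc, hm]
    have hBle : B.card ≤ Nat.card (Q0 : Subgroup (centralizer (H0 : Set G))) := by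
      have key : ∀ c : B, ∃ y : (Q0 : Subgroup (centralizer (H0 : Set G))),
          ConjClasses.mk ((y : centralizer (H0 : Set G)) : G) = c.1.1 := by
        rintro ⟨c, hc⟩
        obtain ⟨H, hHle, hHc, hHn⟩ := hhall c hc
        obtain ⟨d, hd⟩ := Transfer.exists_conj_eq_of_nilpotent_hall H H0 hHn hH0n
          (coprime_index_of_card_eq hσ' (hHc.trans hm'def)) (hHc.trans hH0c.symm)
        have hmem : d * x c * d⁻¹ ∈ centralizer (H0 : Set G) := by
          rw [mem_centralizer_iff]
          intro b hb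
          rw [← hd] at hb
          obtain ⟨a, ha', rfl⟩ := hb
          show d * a * d⁻¹ * (d * x c * d⁻¹) = d * x c * d⁻¹ * (d * a * d⁻¹)
          have he := mem_centralizer_singleton_iff.1 (hHle ha')
          calc d * a * d⁻¹ * (d * x c * d⁻¹) = d * (a * x c) * d⁻¹ := by group
            _ = d * (x c * a) * d⁻¹ := by rw [he]
            _ = _ := by group
        have hy : IsPiElt {q} (⟨_, hmem⟩ : centralizer (H0 : Set G)) := by
          intro r hr hrd
          rw [← Subgroup.orderOf_coe] at hrd
          exact isPiElt_conj d (hxq c) r hr hrd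
        obtain ⟨y, hy'⟩ := sylowClassMap_surjective Q0 ⟨ConjClasses.mk _, fun z hz =>
          (isPiElt_singleton hq).1 (forall_carrier_mk hy z hz)⟩
        refine ⟨y, ?_⟩
        have h1 : IsConj (y : centralizer (H0 : Set G)) ⟨_, hmem⟩ :=
          ConjClasses.mk_eq_mk_iff_isConj.1 (congrArg Subtype.val hy')
        rw [← hx c, ConjClasses.mk_eq_mk_iff_isConj]
        exact ((centralizer (H0 : Set G)).subtype.map_isConj h1).trans
          (isConj_iff.2 ⟨d⁻¹, by show d⁻¹ * (d * x c * d⁻¹) * d⁻¹⁻¹ = x c; group⟩)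
      choose y hy using key
      have := Nat.card_le_card_of_injective y fun a b e => Subtype.ext (Subtype.ext (by
        rw [← hy a, ← hy b, e]))
      rwa [Nat.card_eq_fintype_card, Fintype.card_coe] at this
    calc q * B.card ≤ q * q ^ i := Nat.mul_le_mul_left _ (hi ▸ hBle)
      _ = q ^ (i + 1) := by rw [pow_succ, mul_comm]
      _ ≤ Qc := Nat.pow_le_pow_right hq.pos hilt
  by_cases hI : ∃ c, (p + 1) * m' < 2 * p * g c
  · -- some centraliser has very many classes
    obtain ⟨c, hc⟩ := hI
    have hcB : c ∈ B := Finset.mem_filter.2 ⟨Finset.mem_univ _, by nlinarith⟩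
    set M := centralizer ({x c} : Set G) with hMdef
    have hMpart : piPart σ' M = m' := hpart c hcB
    obtain ⟨M0, hM0n, hM0i, hM0c⟩ := exists_quotient (G := M) σ' hσ' fun r hr _ R => by
      refine hasNormalPComplement_of_many_classes R (le_ratio (hmin r (Finset.mem_of_mem_erase hr))
        hp.pos ?_)
      have h1 := piClassCount_le_mul_erase (G := M) hσ' hr
      have h3 : r ^ (Nat.card M).factorization r * piPart (σ'.erase r) M = piPart σ' M := piPart_erase hr
      have h4 : (p + 1) * piPart σ' M < 2 * p * piClassCount σ' M := by rw [hMpart]; exact hc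
      have h5 : 2 * p * piClassCount σ' M ≤ 2 * p * (piClassCount {r} M * piPart (σ'.erase r) M) :=
        Nat.mul_le_mul_left _ h1
      rw [R.card_eq_multiplicity]
      refine Nat.lt_of_mul_lt_mul_right (a := piPart (σ'.erase r) M) ?_
      calc (p + 1) * r ^ (Nat.card M).factorization r * piPart (σ'.erase r) M
          = (p + 1) * piPart σ' M := by rw [mul_assoc, h3]
        _ < _ := lt_of_lt_of_le h4 (h5.trans (le_of_eq (by ring)))
    haveI := hM0n
    -- a Sylow `q`-subgroup of `G` centralises `x c`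
    obtain ⟨Qx, hQx⟩ : ∃ Qx : Sylow q G, x c ∈ (Qx : Subgroup G) := by
      obtain ⟨j, hj⟩ := (isPiElt_singleton hq).1 (hxq c)
      obtain ⟨Qx, hQx⟩ := (IsPGroup.of_card (G := zpowers (x c)) (p := q) (n := j)
        (by rw [Nat.card_zpowers, hj])).exists_le_sylow
      exact ⟨Qx, hQx (mem_zpowers _)⟩
    have hQab : IsMulCommutative (Qx : Subgroup G) := by
      refine sylow_abelian_of_lt hpq Qx ?_
      rw [Qx.card_eq_multiplicity, ← hQc]
      refine Nat.lt_of_mul_lt_mul_right (a := m') ?_
      rw [hm]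
      refine lt_of_lt_of_le h ?_
      rw [mul_assoc]
      exact Nat.mul_le_mul_left _ (piClassCount_le_mul_erase hσ hqσ)
    have hQM : (Qx : Subgroup G) ≤ M := fun y hy => mem_centralizer_singleton_iff.2
      (congrArg Subtype.val (hQab.is_comm.comm (⟨y, hy⟩ : (Qx : Subgroup G)) ⟨x c, hQx⟩))
    have hMq : (Nat.card M).factorization q = (Nat.card G).factorization q := by
      refine le_antisymm ((Nat.factorization_le_iff_dvd Nat.card_pos.ne' Nat.card_pos.ne').2
        M.card_subgroup_dvd_card q) ?_
      refine (hq.pow_dvd_iff_le_factorization Nat.card_pos.ne').1 ?_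
      rw [← Qx.card_eq_multiplicity]
      exact card_dvd_of_le hQM
    have hM0i' : M0.index = m' := hM0i.trans hMpart
    have hM0card : Nat.card M0 = Nat.card M / piPart σ' M := by
      rw [← hM0i, ← M0.card_mul_index, Nat.mul_div_cancel]
      rw [hM0i']; exact hm'pos
    have hcop0 : (Nat.card M0).Coprime M0.index := by
      rw [hM0card, hM0i]; exact (coprime_piPart_div hσ').symm
    have hM0q : (Nat.card M0).factorization q = (Nat.card G).factorization q := by
      rw [← hMq, ← M0.card_mul_index, Nat.factorization_mul Nat.card_pos.ne'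
        Subgroup.index_ne_zero_of_finite, Finsupp.add_apply]
      rw [Nat.factorization_eq_zero_of_not_dvd (n := M0.index) fun hd =>
        Finset.notMem_erase q σ (prime_of_dvd_piPart hσ' hq (G := M) (hM0i ▸ hd)), add_zero]
    let Qm : Sylow q M0 := default
    obtain ⟨A, hAab, hAcard, hAN⟩ := exists_complement_normalizing M0 hcop0 hM0c Qm
    set Qm' := ((Qm : Subgroup M0).map M0.subtype).map M.subtype with hQm'
    have hQm'c : Nat.card Qm' = q ^ (Nat.card G).factorization q := by
      rw [hQm', card_map_of_injective M.subtype_injective, card_map_of_injective M0.subtype_injective,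
        Qm.card_eq_multiplicity, hM0q]
    let Q : Sylow q G := Sylow.ofCard Qm' hQm'c
    have hQ : (Q : Subgroup G) = Qm' := rfl
    set A' := A.map M.subtype with hA'
    have hA'c : Nat.card A' = m' := by
      rw [hA', card_map_of_injective M.subtype_injective, hAcard, hM0i']
    have hA'N : A' ≤ normalizer ((Q : Subgroup G) : Set G) := by
      rintro _ ⟨a, ha, rfl⟩
      have ha' := mem_normalizer_iff.1 (hAN ha)
      rw [hQ, mem_normalizer_iff]
      intro b
      constructor
      · rintro ⟨b', hb', rfl⟩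
        exact ⟨a * b' * a⁻¹, (ha' b').1 hb', by simp⟩
      · rintro ⟨b', hb', hbe⟩
        refine ⟨a⁻¹ * b' * a, (ha' _).2 (by rw [show a * (a⁻¹ * b' * a) * a⁻¹ = b' by group]; exact hb'), ?_⟩
        simp only [Subgroup.coe_subtype, Subgroup.coe_mul, Subgroup.coe_inv] at hbe ⊢
        rw [hbe]; group
    by_cases hAQ : A' ≤ centralizer ((Q : Subgroup G) : Set G)
    · haveI := hAab
      haveI : IsMulCommutative A' := Subgroup.map_isMulCommutative A _
      haveI : Group.IsNilpotent A' := open scoped IsMulCommutative in inferInstance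
      haveI : Group.IsNilpotent (Q : Subgroup G) := Q.2.isNilpotent
      obtain ⟨J, hJ, hJn⟩ := exists_nilpotent_join (Q : Subgroup G) A' (hcopm hA'c Q.2).symm hAQ
      exact hcon ⟨J, by rw [hJ, hA'c, Q.card_eq_multiplicity, ← hQc, hm], hJn⟩
    · have horb := orbit_bound Q hp.one_lt.le A' hA'N (fun r hr hrd => hmin r
        (Finset.mem_of_mem_erase (prime_of_dvd_piPart hσ' hr (G := G) (by rw [← hm'def, ← hA'c]; exact hrd)))) hAQ
      rw [Q.card_eq_multiplicity, ← hQc] at horb
      have hper : ∀ c, p * g c ≤ m' + if c ∈ B then (p - 1) * m' else 0 := by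
        intro c
        split_ifs with hb
        · calc p * g c ≤ p * m' := Nat.mul_le_mul_left _ (hgm c)
            _ = (1 + (p - 1)) * m' := by rw [show 1 + (p - 1) = p by omega]
            _ = m' + (p - 1) * m' := by ring
        · simp only [B, Finset.mem_filter, Finset.mem_univ, true_and, not_lt] at hb
          simpa using hb
      have hs : p * piClassCount σ G ≤ piClassCount {q} G * m' + B.card * ((p - 1) * m') := by
        refine (Nat.mul_le_mul_left _ hk).trans ?_
        rw [Finset.mul_sum]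
        refine (Finset.sum_le_sum fun c _ => hper c).trans (le_of_eq ?_)
        rw [Finset.sum_add_distrib, Finset.sum_const, Finset.card_univ, hCcard, smul_eq_mul,
          Finset.sum_ite_mem, Finset.univ_inter, Finset.sum_const, smul_eq_mul]
      refine absurd h (not_lt.2 ?_)
      rw [← hm]
      obtain ⟨e, rfl⟩ : ∃ e, q = p + 1 + e := ⟨q - p - 1, by omega⟩
      obtain ⟨d, rfl⟩ : ∃ d, p = d + 1 := ⟨p - 1, by omega⟩
      simp only [Nat.add_sub_cancel] at horb hs
      refine Nat.le_of_mul_le_mul_left (c := (d + 1 + 1 + e) * (d + 1)) ?_ (Nat.mul_pos (by omega) (by omega))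
      have hc1 : d + 1 + 1 + e + d + (d + 1) * d ≤ (d + 1 + 1 + e) * (d + 1) := by nlinarith
      generalize piClassCount {d + 1 + 1 + e} G = kq at horb hs
      generalize piClassCount σ G = K at hs ⊢
      calc (d + 1 + 1 + e) * (d + 1) * ((d + 1) * K)
          ≤ (d + 1 + 1 + e) * (d + 1) * (kq * m' + B.card * (d * m')) := Nat.mul_le_mul_left _ hs
        _ = (d + 1 + 1 + e) * (d + 1) * kq * m' + (d + 1) * d * m' * ((d + 1 + 1 + e) * B.card) := by
          ring
        _ ≤ (d + 1 + 1 + e + d) * Qc * m' + (d + 1) * d * m' * Qc :=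
          Nat.add_le_add (Nat.mul_le_mul_right m' horb) (Nat.mul_le_mul_left _ ha)
        _ = (d + 1 + 1 + e + d + (d + 1) * d) * (Qc * m') := by ring
        _ ≤ _ := Nat.mul_le_mul_right _ hc1
  · -- all centralisers are moderate
    simp only [not_exists, not_lt] at hI
    have hper : ∀ c, 2 * p * g c ≤ 2 * m' + if c ∈ B then (p - 1) * m' else 0 := by
      intro c
      split_ifs with hb
      · calc 2 * p * g c ≤ (p + 1) * m' := hI c
          _ = (2 + (p - 1)) * m' := by rw [show 2 + (p - 1) = p + 1 by omega]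
          _ = 2 * m' + (p - 1) * m' := by ring
      · simp only [B, Finset.mem_filter, Finset.mem_univ, true_and, not_lt] at hb
        rw [add_zero, mul_assoc]
        exact Nat.mul_le_mul_left 2 hb
    have hs : 2 * p * piClassCount σ G ≤
        piClassCount {q} G * (2 * m') + B.card * ((p - 1) * m') := by
      refine (Nat.mul_le_mul_left _ hk).trans ?_
      rw [Finset.mul_sum]
      refine (Finset.sum_le_sum fun c _ => hper c).trans (le_of_eq ?_)
      rw [Finset.sum_add_distrib, Finset.sum_const, Finset.card_univ, hCcard, smul_eq_mul,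
        Finset.sum_ite_mem, Finset.univ_inter, Finset.sum_const, smul_eq_mul]
    refine absurd h (not_lt.2 ?_)
    rw [← hm]
    obtain ⟨e, rfl⟩ : ∃ e, q = p + 1 + e := ⟨q - p - 1, by omega⟩
    obtain ⟨d, rfl⟩ : ∃ d, p = d + 1 := ⟨p - 1, by omega⟩
    simp only [Nat.add_sub_cancel] at hs
    refine Nat.le_of_mul_le_mul_left (c := 2 * (d + 1 + 1 + e)) ?_ (Nat.mul_pos (by omega) (by omega))
    nlinarith [Nat.mul_le_mul_left (d + 1 + 1 + e) hs, Nat.mul_le_mul_right m' hq2,
      Nat.mul_le_mul_left (d * m') ha]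

/-- No prime above `p` has fusion: the Hall subgroup is a semidirect product. -/
theorem exists_hall_base {σ : Finset ℕ} (hσ : ∀ r ∈ σ, r.Prime) {p : ℕ} (hp : p.Prime)
    (hmin : ∀ r ∈ σ, p ≤ r) (h : piPart σ G < p * piClassCount σ G)
    (hno : ∀ r ∈ σ, p < r → (r + 1) * r ^ (Nat.card G).factorization r < 2 * r * piClassCount {r} G) :
    ∃ K : Subgroup G, Nat.card K = piPart σ G ∧ Group.IsNilpotent K := by
  classical
  haveI : Fact p.Prime := ⟨hp⟩
  set S := σ.erase p with hSdef
  have hS : ∀ r ∈ S, r.Prime := fun r hr => hσ r (Finset.mem_of_mem_erase hr)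
  have hpS : p ∉ S := Finset.notMem_erase p σ
  obtain ⟨M, hMn, hMi, hMc⟩ := exists_quotient (G := G) S hS fun r hr _ R => by
    refine hasNormalPComplement_of_many_classes R ?_
    rw [R.card_eq_multiplicity]
    exact hno r (Finset.mem_of_mem_erase hr)
      (lt_of_le_of_ne (hmin r (Finset.mem_of_mem_erase hr)) (Finset.ne_of_mem_erase hr).symm)
  haveI := hMn
  have hMcard : Nat.card M = Nat.card G / piPart S G := by
    rw [← hMi, ← M.card_mul_index, Nat.mul_div_cancel]
    rw [hMi]; exact piPart_pos hS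
  have hcop : (Nat.card M).Coprime M.index := by
    rw [hMcard, hMi]; exact (coprime_piPart_div hS).symm
  let P : Sylow p M := default
  obtain ⟨A, hAab, hAc, hAN⟩ := exists_complement_normalizing M hcop hMc P
  rw [hMi] at hAc
  haveI := hAab
  haveI hAn : Group.IsNilpotent A := open scoped IsMulCommutative in inferInstance
  by_cases hpσ : p ∈ σ
  swap
  · exact ⟨A, by rw [hAc, hSdef, Finset.erase_eq_of_notMem hpσ], hAn⟩
  set P' := (P : Subgroup M).map M.subtype with hP'
  have hP'p : IsPGroup p P' := P.2.map _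
  have hnd : ¬ p ∣ piPart S G := fun hd => hpS (prime_of_dvd_piPart hS hp hd)
  have hP'c : Nat.card P' = p ^ (Nat.card G).factorization p := by
    rw [hP', card_map_of_injective M.subtype_injective, P.card_eq_multiplicity, ← M.card_mul_index,
      Nat.factorization_mul Nat.card_pos.ne' Subgroup.index_ne_zero_of_finite, Finsupp.add_apply,
      Nat.factorization_eq_zero_of_not_dvd (n := M.index) (hMi ▸ hnd), add_zero]
  have hdisj : Disjoint A P' := by
    refine Coprime.disjoint_of_coprime_card ?_ |> disjoint_iff.2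
    rw [hAc, hP'c]
    exact Nat.Coprime.pow_right _ ((hp.coprime_iff_not_dvd).2 hnd).symm
  set L := A ⊔ P' with hLdef
  have hLc : Nat.card L = piPart σ G := by
    rw [hLdef, Coprime.card_sup_of_le_normalizer hAN hdisj.eq_bot, hAc, hP'c, mul_comm]
    exact piPart_erase hpσ
  have hkL : piClassCount σ G ≤ Nat.card (ConjClasses L) := by
    refine piClassCount_le_conjClasses L fun z hz => ?_
    -- split `z` into its `p`-part and its `S`-part
    obtain ⟨a, n, hn, hzn⟩ := Nat.exists_eq_pow_mul_and_not_dvd (orderOf_pos z).ne' p hp.ne_one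
    have hco : Nat.Coprime (p ^ a) n := Nat.Coprime.pow_left a (hp.coprime_iff_not_dvd.mpr hn)
    obtain ⟨e, he1, he2⟩ := Nat.chineseRemainder hco 1 0
    obtain ⟨f, hf1, hf2⟩ := Nat.chineseRemainder hco 0 1
    set u := z ^ e with hu
    set v := z ^ f with hv
    have huo : orderOf u ∣ p ^ a := orderOf_dvd_of_pow_eq_one (by
      rw [hu, ← pow_mul, ← orderOf_dvd_iff_pow_eq_one, hzn, mul_comm e]
      exact Nat.mul_dvd_mul_left _ (Nat.modEq_zero_iff_dvd.mp he2))
    have hvo : orderOf v ∣ n := orderOf_dvd_of_pow_eq_one (by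
      rw [hv, ← pow_mul, ← orderOf_dvd_iff_pow_eq_one, hzn]
      exact Nat.mul_dvd_mul_right (Nat.modEq_zero_iff_dvd.mp hf1) _)
    have huv : u * v = z := by
      have h1 : e + f ≡ 1 [MOD p ^ a * n] :=
        (Nat.modEq_and_modEq_iff_modEq_mul hco).mp
          ⟨by simpa using he1.add hf1, by simpa using he2.add hf2⟩
      rw [hu, hv, ← pow_add]
      conv_rhs => rw [← pow_one z]
      exact pow_eq_pow_iff_modEq.mpr (hzn ▸ h1)
    have hvu : Commute v u := Commute.pow_pow_self z f e
    have hvS : ∀ r : ℕ, r.Prime → r ∣ orderOf v → r ∈ S := fun r hr hrd =>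
      Finset.mem_erase.2 ⟨fun e => hn (e ▸ hrd.trans hvo),
        hz r hr (hzn ▸ (hrd.trans hvo).trans (Dvd.intro_left _ rfl))⟩
    have huM : u ∈ M := by
      rw [← QuotientGroup.eq_one_iff (N := M), ← orderOf_eq_one_iff]
      refine Nat.eq_one_of_dvd_coprimes (Nat.Coprime.pow_left a (hp.coprime_iff_not_dvd.2 hnd))
        ((orderOf_map_dvd (QuotientGroup.mk' M) u).trans huo) ?_
      rw [← hMi]
      exact orderOf_dvd_natCard (G := G ⧸ M) _
    have hvcop : ∀ K : Subgroup G, K ≤ M → (Nat.card (zpowers v)).Coprime (Nat.card K) := by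
      intro K hK
      rw [Nat.card_zpowers]
      refine Nat.coprime_of_dvd fun r hr hrv hrK => ?_
      refine hr.not_dvd_one ?_
      rw [← hcop.gcd_eq_one]
      refine Nat.dvd_gcd (hrK.trans (card_dvd_of_le hK)) ?_
      rw [hMi]
      exact (dvd_pow_self r (hr.factorization_pos_of_dvd Nat.card_pos.ne'
        (hrv.trans (orderOf_dvd_natCard v))).ne').trans (Finset.dvd_prod_of_mem _ (hvS r hr hrv))
    obtain ⟨P1, hu1, hv1⟩ := Coprime.exists_invariant_sylow_ge (A := zpowers v) (K := M) (p := p)
      (by rw [normalizer_eq_top]; exact le_top) (hvcop M le_rfl)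
      (Or.inl inferInstance) (U := zpowers u) (zpowers_le.2 huM)
      (IsPGroup.of_card (n := (orderOf u).factorization p) (by
        rw [Nat.card_zpowers]
        obtain ⟨j, -, hj⟩ := (Nat.dvd_prime_pow hp).1 huo
        rw [hj, hp.factorization_pow, Finsupp.single_eq_same]))
      (zpowers_le.2 (centralizer_le_normalizer _ (mem_centralizer_iff.2 fun y hy => by
        obtain ⟨j, rfl⟩ := hy
        exact ((hvu.zpow_right j).eq).symm)))
    obtain ⟨m0, hm0⟩ := MulAction.exists_smul_eq M P1 P
    have hconj : MulAut.conj (m0 : G) • (P1 : Subgroup M).map M.subtype = P' := by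
      rw [hP', ← hm0, Sylow.coe_subgroup_smul, Coprime.map_conj_smul]
      rfl
    set u1 := (m0 : G) * u * (m0 : G)⁻¹ with hu1def
    set v1 := (m0 : G) * v * (m0 : G)⁻¹ with hv1def
    have hu1P : u1 ∈ P' := by
      rw [← hconj, Coprime.mem_conj_smul_iff]
      convert hu1 (mem_zpowers u) using 1
      rw [hu1def]; group
    have hv1N : v1 ∈ normalizer (P' : Set G) := by
      rw [← hconj, mem_normalizer_iff]
      intro b
      rw [Coprime.mem_conj_smul_iff, Coprime.mem_conj_smul_iff,
        mem_normalizer_iff.1 (hv1 (mem_zpowers v)) _]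
      exact iff_of_eq (congrArg (· ∈ _) (by rw [hv1def]; group))
    set N' := M ⊓ normalizer (P' : Set G) with hN'
    have hAN' : A ≤ normalizer (N' : Set G) := fun b hb => inf_normalizer_le_normalizer_inf
      ⟨by rw [normalizer_eq_top]; exact mem_top b, le_normalizer (hAN hb)⟩
    have hv1A : v1 ∈ A ⊔ N' := by
      have htop : A ⊔ M = ⊤ := by
        refine eq_top_of_card_eq _ ?_
        rw [Coprime.card_sup_of_le_normalizer (by rw [normalizer_eq_top]; exact le_top)
          (Coprime.disjoint_of_coprime_card (by rw [hAc, ← hMi]; exact hcop.symm)), hAc, ← hMi, mul_comm,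
          M.card_mul_index]
      obtain ⟨b, hb, w, hw, hbw⟩ := (Coprime.mem_sup_iff_of_le_normalizer
        (by rw [normalizer_eq_top]; exact le_top)).1 (htop.symm ▸ mem_top v1 : v1 ∈ A ⊔ M)
      rw [← hbw]
      refine mul_mem_sup hb ⟨hw, ?_⟩
      have := mul_mem (inv_mem (hAN hb)) hv1N
      rwa [← hbw, inv_mul_cancel_left] at this
    have hcv1 : (Nat.card (zpowers v1)).Coprime (Nat.card N') := by
      have e : orderOf v1 = orderOf v :=
        orderOf_injective (MulAut.conj (m0 : G)).toMonoidHom (MulAut.conj _).injective v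
      rw [Nat.card_zpowers, e, ← Nat.card_zpowers]
      exact hvcop _ inf_le_left
    obtain ⟨w, hw, hwA⟩ := Coprime.exists_le_conj_of_le_sup hAN' (zpowers_le.2 hv1A)
      (by rw [hAc, ← hMi]; exact hcop.symm.coprime_dvd_right (card_dvd_of_le inf_le_left)) hcv1
      (Or.inl inferInstance)
    refine ⟨w⁻¹ * m0, ?_⟩
    have e : w⁻¹ * m0 * z * (w⁻¹ * m0)⁻¹ = (w⁻¹ * u1 * w) * (w⁻¹ * v1 * w) := by
      rw [hu1def, hv1def, ← huv]; group
    rw [e]
    refine mul_mem (mem_sup_right ?_) (mem_sup_left ?_)
    · exact (mem_normalizer_iff''.1 hw.2 u1).1 hu1P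
    · exact Coprime.mem_conj_smul_iff.1 (hwA (mem_zpowers v1))
  have hpL : ∀ r : ℕ, r.Prime → r ∣ Nat.card L → p ≤ r := fun r hr hrd =>
    hmin r (prime_of_dvd_piPart hσ hr (hLc ▸ hrd))
  exact ⟨L, hLc, (small_commutator hp hpL (by
    rw [hLc]; exact lt_of_lt_of_le h (Nat.mul_le_mul_left _ hkL))).2⟩

/-- **Main theorem**: more than `m / p` classes of σ-elements give a nilpotent Hall σ-subgroup. -/
theorem exists_hall (σ : Finset ℕ) (hσ : ∀ r ∈ σ, r.Prime) {p : ℕ} (hp : p.Prime)
    (hmin : ∀ r ∈ σ, p ≤ r) : ∀ (H : Type u) [Group H] [Finite H],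
      piPart σ H < p * piClassCount σ H →
        ∃ K : Subgroup H, Nat.card K = piPart σ H ∧ Group.IsNilpotent K := by
  induction σ using Finset.strongInduction with
  | _ σ ih =>
    intro H _ _ h
    by_cases hcase : ∃ q ∈ σ, p < q ∧
        2 * q * piClassCount {q} H ≤ (q + 1) * q ^ (Nat.card H).factorization q
    · obtain ⟨q, hqσ, hpq, hq2⟩ := hcase
      exact exists_hall_step hσ hp hmin (fun τ hτ => ih τ hτ (fun r hr => hσ r (hτ.subset hr))
        (fun r hr => hmin r (hτ.subset hr))) h hqσ hpq hq2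
    · simp only [not_exists, not_and, not_le] at hcase
      exact exists_hall_base hσ hp hmin h fun r hr hpr => hcase r hr hpr

/-- More than `m / p` classes: a nilpotent Hall subgroup, small commutator, and the class bound. -/
theorem exists_hall_small (σ : Finset ℕ) (hσ : ∀ r ∈ σ, r.Prime) {p : ℕ} (hp : p.Prime)
    (hmin : ∀ r ∈ σ, p ≤ r) (h : piPart σ G < p * piClassCount σ G) :
    ∃ K : Subgroup G, Nat.card K = piPart σ G ∧ Group.IsNilpotent K ∧
      Nat.card (commutator K) ≤ p ∧ piClassCount σ G ≤ Nat.card (ConjClasses K) := by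
  obtain ⟨K, hK, hKn⟩ := exists_hall σ hσ hp hmin G h
  have hk : piClassCount σ G ≤ Nat.card (ConjClasses K) :=
    piClassCount_le_conjClasses K fun z hz => exists_conj_mem hσ hKn hK hz
  refine ⟨K, hK, hKn, (small_commutator hp (fun r hr hrd =>
    hmin r (prime_of_dvd_piPart hσ hr (hK ▸ hrd))) ?_).1, hk⟩
  rw [hK]
  exact lt_of_lt_of_le h (Nat.mul_le_mul_left _ hk)

end Cfsg.Agent.ManyPiClasses
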