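import Cfsg.Agent.Lib.ManyPiClasses.Main

/-!
# Many classes of π-elements: the statement-level form
-/

set_option autoImplicit false

namespace Cfsg.Agent.ManyPiClasses

open ClassCount

variable {G : Type*} [Group G] [Finite G]

/-- Translate a set of primes and the π-part `m` into the finset form. -/
theorem exists_finset_form (π : Set ℕ)
    (m : ℕ) (hm : m ∣ Nat.card G) (hmπ : ∀ q : ℕ, q.Prime → q ∣ m → q ∈ π)
    (hm' : ∀ q ∈ π, ¬ q ∣ Nat.card G / m) :
    ∃ σ : Finset ℕ, (∀ r ∈ σ, r.Prime) ∧ (∀ r ∈ σ, r ∈ π) ∧ piPart σ G = m ∧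
      piClassCount σ G = Nat.card {C : ConjClasses G //
        ∀ q : ℕ, q.Prime → (∃ g : G, ConjClasses.mk g = C ∧ q ∣ orderOf g) → q ∈ π} := by
  classical
  set σ := (Nat.card G).primeFactors.filter (· ∈ π) with hσdef
  have hσ : ∀ r ∈ σ, r.Prime := fun r hr => Nat.prime_of_mem_primeFactors (Finset.mem_filter.1 hr).1
  refine ⟨σ, hσ, fun r hr => (Finset.mem_filter.1 hr).2, Nat.dvd_antisymm ?_ ?_,
    Nat.card_congr (Equiv.subtypeEquivRight fun C => ?_)⟩
  · refine Finset.prod_dvd_of_isRelPrime (fun r hr s hs hne => ?_) fun r hr => ?_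
    · exact Nat.coprime_iff_isRelPrime.1
        (Nat.Coprime.pow _ _ ((Nat.coprime_primes (hσ r hr) (hσ s hs)).2 hne))
    · have hc : Nat.Coprime (r ^ (Nat.card G).factorization r) (Nat.card G / m) :=
        Nat.Coprime.pow_left _ ((hσ r hr).coprime_iff_not_dvd.2 (hm' r (Finset.mem_filter.1 hr).2))
      refine hc.dvd_of_dvd_mul_right ?_
      rw [Nat.mul_div_cancel' hm]
      exact Nat.ordProj_dvd _ _
  · have hmpos : m ≠ 0 := ne_zero_of_dvd_ne_zero Nat.card_pos.ne' hm
    conv_lhs => rw [← Nat.prod_factorization_pow_eq_self hmpos]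
    rw [Finsupp.prod, Nat.support_factorization]
    refine dvd_trans (Finset.prod_dvd_prod_of_dvd _ _ fun r _ => ?_)
      (Finset.prod_dvd_prod_of_subset m.primeFactors σ
        (fun r => r ^ (Nat.card G).factorization r) fun r hr => ?_)
    · exact pow_dvd_pow r ((Nat.factorization_le_iff_dvd hmpos Nat.card_pos.ne').2 hm r)
    · obtain ⟨hrp, hrd, -⟩ := Nat.mem_primeFactors.1 hr
      exact Finset.mem_filter.2 ⟨Nat.mem_primeFactors.2 ⟨hrp, hrd.trans hm, Nat.card_pos.ne'⟩,
        hmπ r hrp hrd⟩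
  · constructor
    · rintro h q hq ⟨g, hg, hd⟩
      exact (Finset.mem_filter.1 (h g (ConjClasses.mem_carrier_iff_mk_eq.2 hg) q hq hd)).2
    · intro h x hx r hr hd
      refine Finset.mem_filter.2 ⟨Nat.mem_primeFactors.2 ⟨hr, hd.trans (orderOf_dvd_natCard x),
        Nat.card_pos.ne'⟩, h r hr ⟨x, ConjClasses.mem_carrier_iff_mk_eq.1 hx, hd⟩⟩

/-- A nonabelian group with all prime divisors at least `p` has at most `(p²+p-1)/p³ · |L|` classes. -/
theorem card_conjClasses_le_of_nonabelian {L : Type*} [Group L] [Finite L] {p : ℕ} (hp : 2 ≤ p)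
    (hmin : ∀ r : ℕ, r.Prime → r ∣ Nat.card L → p ≤ r) (hna : ¬ IsMulCommutative L) :
    p ^ 3 * Nat.card (ConjClasses L) ≤ (p ^ 2 + p - 1) * Nat.card L := by
  classical
  have hge : ∀ n : ℕ, n ∣ Nat.card L → n ≠ 1 → p ≤ n := fun n hn hn1 => by
    obtain ⟨r, hr, hrn⟩ := Nat.exists_prime_and_dvd hn1
    exact (hmin r hr (hrn.trans hn)).trans (Nat.le_of_dvd (Nat.pos_of_dvd_of_pos hn Nat.card_pos) hrn)
  have h1 : p ^ 2 * Nat.card (Subgroup.center L) ≤ Nat.card L := by
    rw [← Subgroup.card_mul_index (Subgroup.center L), mul_comm (p ^ 2)]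
    refine Nat.mul_le_mul_left _ ?_
    have hdvd : (Subgroup.center L).index ∣ Nat.card L := Subgroup.index_dvd_card _
    have hnc : ¬ IsCyclic (L ⧸ Subgroup.center L) := fun hc => hna
      (MonoidHom.isMulCommutative_of_isCyclic_of_ker_le_center
        (QuotientGroup.mk' (Subgroup.center L)) (by simp))
    have hn1 : (Subgroup.center L).index ≠ 1 := fun h => hnc (by
      have : Subsingleton (L ⧸ Subgroup.center L) := (Nat.card_eq_one_iff_unique.mp h).1
      infer_instance)
    obtain ⟨r, hr, hrd⟩ := Nat.exists_prime_and_dvd hn1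
    obtain ⟨t, ht⟩ := hrd
    have ht1 : t ≠ 1 := fun h => hnc (by
      haveI : Fact r.Prime := ⟨hr⟩
      exact isCyclic_of_prime_card (p := r) (by
        change (Subgroup.center L).index = r
        rw [ht, h, mul_one]))
    rw [ht, sq]
    exact Nat.mul_le_mul (hmin r hr ((Dvd.intro t ht.symm).trans hdvd))
      (hge t ((Dvd.intro_left r ht.symm).trans hdvd) ht1)
  have h2 : p * Nat.card (ConjClasses L) ≤ Nat.card L + (p - 1) * Nat.card (Subgroup.center L) := by
    refine mul_card_range_le (ConjClasses.mk : L → ConjClasses L) ConjClasses.mk_surjective p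
      (Subgroup.center L : Set L) fun a ha => ?_
    have hne : (Subgroup.centralizer ({a} : Set L)).index ≠ 1 := by
      intro h
      rw [Subgroup.index_eq_one] at h
      refine ha (Subgroup.mem_center_iff.mpr fun g => ?_)
      exact (Subgroup.mem_centralizer_singleton_iff.mp (h ▸ Subgroup.mem_top g))
    have he : (MulAction.stabilizer (ConjAct L) a).index =
        (Subgroup.centralizer ({a} : Set L)).index := by
      rw [ConjAct.stabilizer_eq_centralizer]; rfl
    have hc : Nat.card {b : L // ConjClasses.mk b = ConjClasses.mk a} =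
        Nat.card (MulAction.orbit (ConjAct L) a) :=
      Nat.card_congr (Equiv.subtypeEquivRight fun b => by
        rw [ConjAct.mem_orbit_conjAct, ConjClasses.mk_eq_mk_iff_isConj])
    rw [hc, Nat.card_coe_set_eq, ← MulAction.index_stabilizer, he]
    exact hge _ (Subgroup.index_dvd_card _) hne
  obtain ⟨a, rfl⟩ : ∃ a, p = a + 1 := ⟨p - 1, by omega⟩
  simp only [Nat.add_sub_cancel, show (a + 1) ^ 2 + (a + 1) - 1 = (a + 1) ^ 2 + a by omega] at h2 ⊢
  calc (a + 1) ^ 3 * Nat.card (ConjClasses L)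
      = (a + 1) ^ 2 * ((a + 1) * Nat.card (ConjClasses L)) := by ring
    _ ≤ (a + 1) ^ 2 * (Nat.card L + a * Nat.card (Subgroup.center L)) := Nat.mul_le_mul_left _ h2
    _ = (a + 1) ^ 2 * Nat.card L + a * ((a + 1) ^ 2 * Nat.card (Subgroup.center L)) := by ring
    _ ≤ (a + 1) ^ 2 * Nat.card L + a * Nat.card L :=
      Nat.add_le_add_left (Nat.mul_le_mul_left _ h1) _
    _ = _ := by ring

end Cfsg.Agent.ManyPiClasses
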